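import Cfsg.Agent.Lib.MP.GA

/-!
# Package DAG: the group generated by the root groups (see `plans/MP.md`)
-/

set_option autoImplicit false

namespace CfsgLib.MP
open Cfsg CfsgLib.Tits MulAction
open scoped commutatorElement

open CfsgLib.FS CfsgLib.FS.Pol

universe u

section
variable {n : ℕ} {X X' : Type*} {Γ : Pol n X} {Γ' : Pol n X'} {G G' : Type*} [Group G] [MulAction G X] [Group G']
  [MulAction G' X']

theorem U_le_dag {P : ℤ → X} (hP : Γ.W P) (i : ℤ) : Γ.U G P i ≤ dag Γ G :=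
  le_iSup₂_of_le (f := fun P (_ : Γ.W P) => ⨆ i, Γ.U G P i) P hP (le_iSup (fun i => Γ.U G P i) i)

theorem dag_le {H : Subgroup G} (h : ∀ P, Γ.W P → ∀ i, Γ.U G P i ≤ H) : dag Γ G ≤ H :=
  iSup₂_le fun P hP => iSup_le (h P hP)

theorem dag_normal (S : Γ.Au G) : (dag Γ G).Normal := by
  refine ⟨fun x hx g => ?_⟩
  have : dag Γ G ≤ (dag Γ G).comap (MulAut.conj g).toMonoidHom := dag_le fun P hP i u hu =>
    U_le_dag (S.W_smul hP g) i (mem_U.2 fun j a b => S.Q_conj (U_Q hu a b) g)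
  exact this hx

/-- the full automorphism group -/
def fullAut (Γ : Pol n X) : Subgroup (Equiv.Perm X) where
  carrier := {σ | ∀ x y, Γ.adj (σ x) (σ y) ↔ Γ.adj x y}
  one_mem' _ _ := Iff.rfl
  mul_mem' {a b} ha hb x y := (ha _ _).trans (hb x y)
  inv_mem' {a} ha x y := by simpa using (ha (a⁻¹ x) (a⁻¹ y)).symm

theorem fullAut_au (Γ : Pol n X) : Γ.Au (fullAut Γ) :=
  ⟨fun g _ _ h => (g.2 _ _).2 h, fun _ h => Subtype.ext (Equiv.ext h)⟩

theorem dag_key (S : Γ.Au G) (S' : Γ'.Au G') (hM' : Γ'.Mou G') (f : X ≃ X')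
    (hf : ∀ x y, Γ'.adj (f x) (f y) ↔ Γ.adj x y) {g : G} (hg : g ∈ dag Γ G) :
    ∃ g' ∈ dag Γ' G', ∀ x, f (g • x) = g' • f x := by
  have h3 := Γ.three
  let H : Subgroup G :=
    { carrier := {g | ∃ g' ∈ dag Γ' G', ∀ x, f (g • x) = g' • f x}
      one_mem' := ⟨1, one_mem _, by simp⟩
      mul_mem' := by
        rintro a b ⟨a', ha, ea⟩ ⟨b', hb, eb⟩
        exact ⟨a' * b', mul_mem ha hb, fun x => by rw [mul_smul, ea, eb, mul_smul]⟩
      inv_mem' := by
        rintro a ⟨a', ha, ea⟩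
        exact ⟨a'⁻¹, inv_mem ha, fun x => by rw [eq_inv_smul_iff, ← ea, smul_inv_smul]⟩ }
  refine dag_le (H := H) (fun P hP i u hu => ?_) hg
  have hP' : Γ'.W fun j => f (P j) := ⟨fun j => (hf _ _).2 (hP.1 j), fun j e => hP.2 j (f.injective e)⟩
  have a1 : Γ.adj (P i) (P (i - 1)) := adj' hP (by ring)
  obtain ⟨u', hu', e⟩ := hM' _ hP' i (f (u • P (i - 1)))
    ((hf _ _).2 (by simpa only [U_fix hP hu le_rfl (by omega)] using S.smul u a1)) (fun q => hP.ne (i := i - 1) (j := i + 1) (by ring)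
      (by have := f.injective q
          rwa [← U_fix hP hu (j := i + 1) (by omega) (by omega), smul_left_cancel_iff] at this))
  refine ⟨u', U_le_dag hP' i hu', fun x => ?_⟩
  let σ : fullAut Γ' := ⟨(toPerm u')⁻¹ * f.permCongr (toPerm u), fun x y => by
    obtain ⟨x, rfl⟩ := f.surjective x
    obtain ⟨y, rfl⟩ := f.surjective y
    simp only [Equiv.Perm.mul_apply, Equiv.permCongr_apply, Equiv.symm_apply_apply, toPerm_apply]
    change Γ'.adj (u'⁻¹ • _) (u'⁻¹ • _) ↔ _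
    rw [S'.adj_iff, hf, hf, S.adj_iff]⟩
  have hσ : ∀ x, σ • f x = u'⁻¹ • f (u • x) := fun x => by
    change ((toPerm u')⁻¹ * f.permCongr (toPerm u) : Equiv.Perm X') (f x) = _
    simp only [Equiv.Perm.mul_apply, Equiv.permCongr_apply, Equiv.symm_apply_apply, toPerm_apply]
    rfl
  have A : ∀ j, i < j → j < i + n → ∀ w, Γ'.adj (f (P j)) w → σ • w = w := by
    intro j a b w hw
    obtain ⟨w, rfl⟩ := f.surjective w
    rw [hσ, Q_fix_nbr (U_Q hu a b) ((hf _ _).1 hw), Q_fix_nbr (U_Q (inv_mem hu') a b) hw]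
  have h1 : σ = 1 := (fullAut_au Γ').rigid hP' (i := i - 1) (j := i + 1) (fun k a b => ?_) (by omega) (by omega)
    (A _ (by omega) (by omega)) (A _ (by omega) (by omega))
  · rw [← inv_smul_eq_iff, ← hσ, h1, one_smul]
  · rw [hσ, inv_smul_eq_iff]
    by_cases c : k = i - 1
    · rw [c, e]
    · rw [U_fix hP hu (by omega) (by omega), U_fix hP' hu' (by omega) (by omega)]

theorem dag_iso (S : Γ.Au G) (S' : Γ'.Au G') (hM : Γ.Mou G) (hM' : Γ'.Mou G') (f : X ≃ X')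
    (hf : ∀ x y, Γ'.adj (f x) (f y) ↔ Γ.adj x y) : Nonempty (dag Γ G ≃* dag Γ' G') := by
  let φ : G →* Equiv.Perm X' := f.permCongrHom.toMonoidHom.comp (toPermHom G X)
  have h1 : Function.Injective φ := f.permCongrHom.injective.comp
    ((injective_iff_map_eq_one _).2 fun g e => S.faith g fun x => DFunLike.congr_fun e x)
  have h2 : Function.Injective (toPermHom G' X') :=
    (injective_iff_map_eq_one _).2 fun g e => S'.faith g fun x => DFunLike.congr_fun e x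
  have hφ : ∀ g x, φ g (f x) = f (g • x) := fun g x => by simp [φ]
  have h3 : (dag Γ G).map φ = (dag Γ' G').map (toPermHom G' X') := by
    refine le_antisymm ?_ ?_
    · rintro _ ⟨g, hg, rfl⟩
      obtain ⟨g', hg', e⟩ := dag_key S S' hM' f hf hg
      refine ⟨g', hg', Equiv.ext fun x => ?_⟩
      obtain ⟨x, rfl⟩ := f.surjective x
      rw [hφ, e]; rfl
    · rintro _ ⟨g', hg', rfl⟩
      obtain ⟨g, hg, e⟩ := dag_key S' S hM f.symm (fun x y => by rw [← hf]; simp) hg'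
      refine ⟨g, hg, Equiv.ext fun x => ?_⟩
      obtain ⟨x, rfl⟩ := f.surjective x
      have := e (f x)
      rw [f.symm_apply_apply] at this
      rw [hφ, ← this, f.apply_symm_apply]; rfl
  exact ⟨((Subgroup.equivMapOfInjective _ _ h1).trans (MulEquiv.subgroupCongr h3)).trans
    (Subgroup.equivMapOfInjective _ _ h2).symm⟩

end

variable {n : ℕ} {G : Type u} [Group G] [Finite G] {B U : Subgroup G} (Q : PG n G B U)

theorem PG.iso_dag [IsSimpleGroup G] (hM : Q.Γ.Mou Q.H) : Nonempty (G ≃* dag Q.Γ Q.H) := by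
  have h1 : Function.Injective Q.π := by
    rcases (MonoidHom.normal_ker Q.π).eq_bot_or_eq_top with h | h
    · exact (MonoidHom.ker_eq_bot_iff _).1 h
    · refine absurd (eq_bot_iff.2 fun g _ => ?_) (Q.spl.V_ne_bot Q.adj)
      obtain ⟨g, rfl⟩ := Q.surj g
      exact (h ▸ Subgroup.mem_top g : g ∈ Q.π.ker)
  let e : G ≃* Q.H := MulEquiv.ofBijective Q.π ⟨h1, Q.surj⟩
  haveI : IsSimpleGroup Q.H := e.symm.isSimpleGroup
  obtain ⟨P, hP, -⟩ := Q.Γ.exists_W1 Q.x 0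
  have h2 : dag Q.Γ Q.H = ⊤ := ((dag_normal Q.spl.toAu).eq_bot_or_eq_top).resolve_left fun h =>
    hM.U_ne_bot hP 0 (eq_bot_iff.2 (h ▸ U_le_dag hP 0))
  exact ⟨e.trans (Subgroup.topEquiv.symm.trans (MulEquiv.subgroupCongr h2.symm))⟩

/-- in the three small cases the group generated by the root groups is not perfect -/
theorem PG.not_perfect (h : ∀ x, Q.Γ.Reg Q.H x) (h1 : ∀ g ∈ B, (∃ k, g ^ 2 ^ k = 1) → g ∈ U)
    (h2 : ∀ g ∈ U, Q.π g = 1 → g = 1) (h3 : ∀ g : G, ∃ b ∈ B, ∃ k ∈ Subgroup.normalClosure (U : Set G), g = k * b)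
    {K : Subgroup G} (hK : K.index = 2) : commutator (dag Q.Γ Q.H) ≠ ⊤ := by
  intro hp
  haveI : Finite Q.H := Finite.of_surjective _ Q.surj
  haveI hN : K.Normal := Subgroup.normal_of_index_eq_two hK
  have A : ∀ g ∈ B, ∃ m, Odd m ∧ g ^ m ∈ U := by
    intro g hg
    obtain ⟨k, m, hm, e⟩ := Nat.exists_eq_two_pow_mul_odd (orderOf_pos g).ne'
    exact ⟨m, hm, h1 _ (pow_mem hg m) ⟨k, by rw [← pow_mul, mul_comm, ← e, pow_orderOf_eq_one]⟩⟩
  have C : ∀ (g : G) (m : ℕ), Odd m → g ^ m ∈ K → g ∈ K := by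
    rintro g _ ⟨t, rfl⟩ hg
    rwa [pow_succ, pow_mul, mul_mem_cancel_left (pow_mem (Subgroup.sq_mem_of_index_two hK g) t)] at hg
  have D : ∀ g, Q.π g = 1 → g ∈ K := by
    intro g hg
    obtain ⟨m, hm, hu⟩ := A g ((Q.stab g).2 (by simp [hg]))
    exact C g m hm (by rw [h2 _ hu (by rw [map_pow, hg, one_pow])]; exact one_mem _)
  have E : dag Q.Γ Q.H ≤ K.map Q.π := by
    intro d hd
    have : commutator (dag Q.Γ Q.H) ≤ (K.map Q.π).subgroupOf _ := by
      refine Subgroup.commutator_le.2 fun a _ b _ => ?_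
      obtain ⟨a', ea⟩ := Q.surj a
      obtain ⟨b', eb⟩ := Q.surj b
      refine ⟨⁅a', b'⁆, ?_, by rw [map_commutatorElement, ea, eb]; rfl⟩
      rw [SetLike.mem_coe, commutatorElement_def, mul_assoc, Subgroup.mul_mem_iff_of_index_two hK, ← mul_inv_rev, inv_mem_iff]
      exact ⟨hN.mem_comm, hN.mem_comm⟩
    exact this (hp ▸ Subgroup.mem_top (⟨d, hd⟩ : dag Q.Γ Q.H))
  obtain ⟨R, hR, r1, r2⟩ := exists_W2 Q.adj n
  obtain ⟨P, hP, e⟩ := exists_apt hR n
  have F : U ≤ K := by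
    intro u hu
    have k1 := Q.le_V u hu
    rw [← r1, ← r2, ← e n le_rfl (by omega), ← e (n + 1) (by omega) (by omega)] at k1
    have k2 : Iv (Q.Γ.U Q.H P) 1 n ≤ dag Q.Γ Q.H := iSup₂_le fun j _ => U_le_dag hP.1 j
    obtain ⟨k, hk, ek⟩ := E (k2 (V_le_Iv Q.spl h hP k1))
    have := mul_mem hk (D (k⁻¹ * u) (by rw [map_mul, map_inv, ek, inv_mul_cancel]))
    rwa [mul_inv_cancel_left] at this
  have : K = ⊤ := eq_top_iff.2 fun g _ => by
    obtain ⟨b, hb, k, hk, rfl⟩ := h3 g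
    obtain ⟨m, hm, hu⟩ := A b hb
    exact mul_mem (Subgroup.normalClosure_le_normal F hk) (C b m hm (F hu))
  simp [this] at hK

end CfsgLib.MP
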