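import Cfsg.Agent.Lib.MP.Defs
import Cfsg.Agent.Lib.FS.Final

/-!
# Package FIN: the polygon of a split BN-pair of rank two (see `plans/MP.md`)
-/

set_option autoImplicit false

namespace CfsgLib.MP
open Cfsg CfsgLib.Tits MulAction
open scoped commutatorElement

open CfsgLib.FS CfsgLib.FS.Pol CfsgLib.BN CfsgLib.Tits.Gx

universe u

theorem exists_pg' {G : Type u} [Group G] [Finite G] (P : BNPair G) {U : Subgroup G} (hU : U ≤ P.B)
    (hn : ∀ b ∈ P.B, ∀ u ∈ U, b * u * b⁻¹ ∈ U) (hnil : Group.IsNilpotent U) (hs : U ⊔ (P.B ⊓ P.N) = P.B)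
    {s t : P.S} (hst : s ≠ t) (hall : ∀ r, r = s ∨ r = t) (h3 : 3 ≤ (exch P).mat s t) :
    ∃ Q : PG ((exch P).mat s t) G P.B U, Q.Γ.val Q.x = Nat.card ((bld P).R {s} (ap P 1)) - 1 ∧
      Q.Γ.val Q.y = Nat.card ((bld P).R {t} (ap P 1)) - 1 ∧ ∀ g, Q.π g = 1 → ∀ z : G ⧸ P.B, g • z = z := by
  have := Fintype.ofFinite (G ⧸ P.B)
  have h := splB hU hn hnil hs
  have m : ∀ z, z ∈ (bld P).R {s, t} (ap P 1) := fun z => by
    rw [show ({s, t} : Set P.S) = Set.univ from Set.eq_univ_of_forall hall, Bld.R_univ]; trivial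
  let ι : G →* h.PJ s t (ap P 1) := (MonoidHom.id G).codRestrict _ fun g => m _
  have o : ∀ k z, z ∈ (bld P).R {k} z := fun k z => (bld P).self_mem_R _ _
  have v : ∀ p, (pol (bld P) (ap P 1) hst h3).val p = Nat.card p.1.2 - 1 := fun p =>
    congrArg (· - 1) (card_vadj hst p)
  have fx : ∀ g z, h.pr s t _ (ι g) • pan s (Or.inl rfl) z (m z) = pan s (Or.inl rfl) z (m z) →
      h.pr s t _ (ι g) • pan t (Or.inr rfl) z (m z) = pan t (Or.inr rfl) z (m z) → g • z = z := fun g z a b =>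
    Vx.unique (p := pan s (Or.inl rfl) z (m z)) (q := pan t (Or.inr rfl) z (m z)) hst (o _ _) (o _ _)
      (a ▸ h.pr_mem (ι g) (o _ _)) (b ▸ h.pr_mem (ι g) (o _ _))
  refine ⟨{ X := Vx (bld P) s t (ap P 1)
            Γ := pol _ _ hst h3
            H := h.HH s t _
            π := (h.pr s t _).comp ι
            surj := (MonoidHom.rangeRestrict_surjective _).comp fun g => ⟨g, rfl⟩
            spl := h.spl hst h3
            x := pan s (Or.inl rfl) _ (m (ap P 1))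
            y := pan t (Or.inr rfl) _ (m (ap P 1))
            adj := ⟨hst, _, o _ _, o _ _⟩
            stab := fun g => ⟨fun hg => ?_, fun hg => fix_one.1 (fx g _ hg.1 hg.2)⟩
            le_V := fun u hu => h.mem_V hst (o _ _) (o _ _) (ι u)
              ((mem_FU (f := u) hn).2 (by simpa using hn _ (inv_mem rep_one) _ hu))
            h8 := fun h8 p q ⟨ne, z, hp, hq⟩ => ?_ }, v _, v _, fun g hg z => fx g z ?_ ?_⟩
  · have e : g • ap P 1 = ap P 1 := fix_one.2 hg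
    exact ⟨h.pr_eq (ι g) rfl (o _ _) (e.symm ▸ o _ _), h.pr_eq (ι g) rfl (o _ _) (e.symm ▸ o _ _)⟩
  · rw [v, v, p.eq_R hp, q.eq_R hq, card_R, card_R]
    have := fh8 (P := P) h8
    rcases p.2.1 with e1 | e1 <;> rcases q.2.1 with e2 | e2 <;> rw [e1, e2] at ne ⊢
    exacts [absurd rfl ne, by rwa [mul_right_comm], this, absurd rfl ne]
  · exact (congrArg (· • _) hg).trans (one_smul _ _)
  · exact (congrArg (· • _) hg).trans (one_smul _ _)


theorem exists_pg {G : Type u} [Group G] [Finite G] (P : BNPair G) {U : Subgroup G} (hU : U ≤ P.B)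
    (hn : ∀ b ∈ P.B, ∀ u ∈ U, b * u * b⁻¹ ∈ U) (hnil : Group.IsNilpotent U) (hs : U ⊔ (P.B ⊓ P.N) = P.B)
    {s t : P.S} (hst : s ≠ t) (hall : ∀ r, r = s ∨ r = t) (h3 : 3 ≤ (exch P).mat s t) :
    ∃ Q : PG ((exch P).mat s t) G P.B U, Q.Γ.val Q.x = Nat.card ((bld P).R {s} (ap P 1)) - 1 ∧
      Q.Γ.val Q.y = Nat.card ((bld P).R {t} (ap P 1)) - 1 := by
  obtain ⟨Q, h1, h2, -⟩ := exists_pg' P hU hn hnil hs hst hall h3
  exact ⟨Q, h1, h2⟩

theorem exists_pg_of_simple {G : Type u} [Group G] [Finite G] (P : BNPair G) (h2 : P.rank = 2) (hirr : P.Irreducible)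
    (hs : P.IsSplit) : ∃ n, (n = 3 ∨ n = 4 ∨ n = 6 ∨ n = 8) ∧ ∃ U, Nonempty (PG n G P.B U) := by
  obtain ⟨U, hU, hn, hnil, hs⟩ := hs
  obtain ⟨s, t', ne, h⟩ := Nat.card_eq_two_iff.1 h2
  obtain ⟨t, hst, ht⟩ := exists_node h2.ge hirr s
  have k : ∀ r, r = s ∨ r = t' := fun r => (h ▸ Set.mem_univ r : r ∈ ({s, t'} : Set P.S))
  obtain rfl : t = t' := (k t).resolve_left hst.symm
  have m : (exch P).mat s t = 3 ∨ (exch P).mat s t = 4 ∨ (exch P).mat s t = 6 ∨ (exch P).mat s t = 8 :=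
    (FH.orderOf_mem hst.symm).resolve_left ht
  obtain ⟨Q, -⟩ := exists_pg P hU hn hnil hs hst k (by omega)
  exact ⟨_, m, U, ⟨Q⟩⟩

theorem exists_pg_of_mod {X : Type u} [Group X] [Finite X] {n : ℕ} (hn : 3 ≤ n) {q : ℕ → ℕ} (h : BNMod 2 (mR n) q X) :
    ∃ (B U : Subgroup X) (Q : PG n X B U), Q.Γ.val Q.x = q 0 ∧ Q.Γ.val Q.y = q 1 ∧ (∀ g ∈ U, Q.π g = 1 → g = 1) ∧
      (∀ g : X, ∃ b ∈ B, ∃ k ∈ Subgroup.normalClosure (U : Set X), g = k * b) ∧
      (Even (q 0) → ∀ g ∈ B, (∃ k, g ^ 2 ^ k = 1) → g ∈ U) := by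
  obtain ⟨P, e, p, hp, h0, U, Y, h1, h2, h3, h4, h5, h6, h7, h8, h9, -⟩ := h
  haveI := Fact.mk hp
  have hst : e.symm 0 ≠ e.symm 1 := by simp
  obtain rfl : (exch P).mat (e.symm 0) (e.symm 1) = n := (h0 _ _).trans (by simp [mR])
  have hc : ∀ b ∈ P.B, ∀ u ∈ U, b * u * b⁻¹ ∈ U := fun b hb u hu =>
    h3 _ (mul_mem (mul_mem hb (h2 hu)) (inv_mem hb)) <| by
      obtain ⟨k, hk⟩ := h1 ⟨u, hu⟩
      exact ⟨k, by rw [conj_pow, show u ^ p ^ k = 1 from congrArg Subtype.val hk, mul_one, mul_inv_cancel]⟩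
  have hs : U ⊔ (P.B ⊓ P.N) = P.B := le_antisymm (sup_le h2 inf_le_left) fun b hb => by
    obtain ⟨u, hu, t, ht, rfl⟩ := h4 b hb
    exact Subgroup.mul_mem_sup hu ht
  have w : ∀ u ∈ U, u • ap P (w0 (exch P)) = ap P (w0 (exch P)) → u = 1 := fun u hu k =>
    h5 _ (rep_mem P _) (fun s => by rw [cls_rep]; exact not_P_w0 _ s) u hu (fix_iff.1 k)
  have cd : ∀ s, Nat.card ((bld P).R {s} (ap P 1)) - 1 = q (e s) := fun s => by
    have inj : Function.Injective fun y : Y s => (y : X) • ap P (sW P s) := fun y y' k => by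
      have k1 : ((y⁻¹ * y' : Y s) : X) • ap P (sW P s) = ap P (sW P s) := by
        rw [Subgroup.coe_mul, mul_smul, show (y' : X) • ap P (sW P s) = _ from k.symm, Subgroup.coe_inv, inv_smul_smul]
      have k2 : ((y⁻¹ * y' : Y s) : X) • ap P (sW P s * w0 (exch P)) = ap P (sW P s * w0 (exch P)) :=
        fix_iff.2 (h9 s _ (rep_mem P _) (by rw [cls_rep]; exact (P_s_mul_iff _).2 (not_P_w0 _ s)) _ (y⁻¹ * y').2)
      have k3 := ((bld P).act_of_opp isApt (rho_mem ((y⁻¹ * y' : Y s) : X)) (v := 1) (x := sW P s)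
        (by rw [one_mul]; exact k1) (by rw [one_mul]; exact k2)).2 (w0 (exch P))
      rw [one_mul] at k3
      exact inv_mul_eq_one.1 (Subtype.ext (w _ (h6 s (y⁻¹ * y').2) k3))
    have d : ∀ y : Y s, (bld P).δ (ap P 1) ((y : X) • ap P (sW P s)) = sW P s := fun y => by
      have := rho_mem (P := P) (y : X) (ap P 1) (ap P (sW P s))
      rwa [fix_one.2 (h2 (h6 s y.2)), isApt, inv_one, one_mul] at this
    have : (bld P).R {s} (ap P 1) = insert (ap P 1) (Set.range fun y : Y s => (y : X) • ap P (sW P s)) := by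
      ext z
      refine (bld P).mem_R_singleton.trans (or_congr Iff.rfl ⟨fun hz => ?_, fun ⟨y, hy⟩ => hy ▸ d y⟩)
      obtain ⟨k, rfl⟩ := QuotientGroup.mk_surjective z
      obtain ⟨y, hy, b, hb, rfl⟩ := h8 s k (of_one hz)
      refine ⟨⟨y, hy⟩, QuotientGroup.eq.2 ?_⟩
      have := (cls_eq_iff P (rep_mem P (sW P s)) (P.subset s.2)).1 (cls_rep P _)
      simpa [mul_assoc] using mul_mem this hb
    rw [this, Nat.card_coe_set_eq, Set.ncard_insert_of_notMem, Set.ncard_range_of_injective inj, h7,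
      Nat.add_sub_cancel]
    rintro ⟨y, hy⟩
    have := d y
    rw [show (y : X) • ap P (sW P s) = _ from hy, (bld P).δ_self] at this
    exact sW_ne_one s this.symm
  obtain ⟨Q, k1, k2, k3⟩ := exists_pg' P h2 hc h1.isNilpotent hs hst
    (e.symm.surjective.forall.2 fun i => by fin_cases i <;> simp) hn
  refine ⟨P.B, U, Q, by rw [k1, cd]; simp, by rw [k2, cd]; simp, fun g hg k => w g hg (k3 g k _), fun g => ?_,
    fun k => ?_⟩
  · have : Subgroup.normalClosure (U : Set X) ⊔ P.B = ⊤ := by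
      rw [eq_top_iff, ← P.sup_eq_top, ← P.closure_sup]
      refine sup_le le_sup_right (sup_le ((Subgroup.closure_le _).2 fun s hs => ?_) (inf_le_left.trans le_sup_right))
      obtain ⟨b, hb, k⟩ := exists_sbs_mem ⟨s, hs⟩
      obtain ⟨u, hu, t, ht, rfl⟩ := h4 b hb
      obtain ⟨b1, c1, b2, c2, k⟩ := exists_of_mem_cell k (S_mem_cell _)
      have : s = b1 * ((s * u * s⁻¹) * ((s * t * s⁻¹) * (s * s))) * b2 := k.trans (by simp [mul_assoc])
      rw [SetLike.mem_coe, this]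
      exact mul_mem (mul_mem (Subgroup.mem_sup_right c1) (Subgroup.mul_mem_sup
        (Subgroup.normalClosure_normal.conj_mem _ (Subgroup.subset_normalClosure hu) s)
        (mul_mem (P.conj_mem s (P.subset hs) t ht) (P.sq_mem s hs)))) (Subgroup.mem_sup_right c2)
    have k : g ∈ ((Subgroup.normalClosure (U : Set X) ⊔ P.B : Subgroup X) : Set X) := this ▸ Subgroup.mem_top g
    rw [Subgroup.normal_mul] at k
    obtain ⟨a, ha, b, hb, rfl⟩ := k
    exact ⟨b, hb, a, ha, rfl⟩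
  · obtain ⟨m, hm⟩ := (h1.to_le (h6 (e.symm 0))).exists_card_eq
    rw [h7] at hm
    simp only [Equiv.apply_symm_apply, Fin.val_zero] at hm
    obtain rfl : 2 = p := (Nat.prime_dvd_prime_iff_eq Nat.prime_two hp).1
      (Nat.prime_two.dvd_of_dvd_pow (hm ▸ k.two_dvd))
    exact h3

end CfsgLib.MP
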