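import Cfsg.Agent.Lib.MP.Defs
import Cfsg.Agent.Lib.Mouf.Br
import Cfsg.Agent.Lib.Mouf.Glue

/-!
# Package GA: the root groups of a Moufang polygon (see `plans/MP.md`)
-/

set_option autoImplicit false

namespace CfsgLib.MP
open Cfsg CfsgLib.Tits MulAction
open scoped commutatorElement

open CfsgLib.FS CfsgLib.FS.Pol CfsgLib.Mouf

/-- a root group datum as a system of root groups -/
def toMS {n : ℕ} {A : Type*} [Group A] (R : RD n A) : MS n A where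
  U := R.U
  T c m := Act R.U m c 1
  R c m := Act R.U m c (-1)
  three := R.three
  per := R.per
  T_per _ _ := ⟨fun h => R.act_per h ⟨1, by ring⟩, fun h => R.act_per h ⟨-1, by ring⟩⟩
  R_per _ _ := ⟨fun h => R.act_per h ⟨1, by ring⟩, fun h => R.act_per h ⟨-1, by ring⟩⟩
  T_one := Act.one
  T_T h h' := h.mul h' ⟨by ring, by ring⟩
  T_R h h' := h.mul h' ⟨by ring, by ring⟩
  R_T h h' := h.mul h' ⟨by ring, by ring⟩
  R_R h h' := h.mul h' ⟨by ring, by ring⟩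
  T_inv h := h.inv (Or.inl ⟨rfl, rfl⟩)
  R_inv h := h.inv (Or.inr ⟨rfl, rfl⟩)
  T_conj h hu := h.conj hu (by ring)
  R_conj h hu := h.conj hu (by ring)
  nontriv := R.ne
  mu_ex hu h := R.mu _ _ hu h
  mu_uniq {i u p q p' q'} hu h hp hq hp' hq' h1 h2 :=
    RD.Mu.unique (i := i) (j := i + n) ⟨Or.inl rfl, hu, h, hp, hq, by convert h1 using 1; ring⟩
      ⟨Or.inl rfl, hu, h, hp', hq', by convert h2 using 1; ring⟩
  comm h1 h2 hu hv := (R.comm_mem hu hv ⟨h1, h2, rfl, rfl⟩).1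
  sep hu h := R.eq_one_left hu h (by omega)
  sep' hu h := R.eq_one_left hu h (by omega)

/-- the root group sequences of two data are isomorphic -/
def Lk {n : ℕ} {A A' : Type*} [Group A] [Group A'] (R : RD n A) (R' : RD n A') : Prop :=
  ∃ Δ, R.Match R' Δ 1 n ∧ Comm n Δ 1 n

theorem Link.lk {n : ℕ} {A A' : Type*} [Group A] [Group A'] {R : RD n A} {R' : RD n A'} (h : Link n R.U R'.U) :
    Lk R R' := by
  obtain ⟨Δ, h1, h2⟩ := h
  refine ⟨Δ, ⟨fun i a b g hg => (h1 i a b).le hg, fun i a b => (h1 i a b).left, fun i a b => (h1 i a b).right,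
    fun i a b g hg => ⟨fun e => (h1 i a b).inj_left _ (e ▸ hg), fun e => (h1 i a b).inj_right _ (e ▸ hg)⟩⟩,
    fun i j a b c _ => h2 i j a b c⟩

section
variable {n : ℕ} {X : Type*} {Γ : Pol n X} {G : Type*} [Group G] [MulAction G X] {P : ℤ → X} [Finite G]

theorem mou_of_reg (S : Γ.Spl G) (h : ∀ x, Γ.Reg G x) : Γ.Mou G :=
  let ⟨_, T⟩ := S.exists_SP
  Mouf.mou_of_reg T h

theorem exists_rd (S : Γ.Spl G) (h : ∀ x, Γ.Reg G x) (hP : Γ.Apt P) : ∃ R : RD n G, R.U = Γ.U G P :=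
  let ⟨_, T⟩ := S.exists_SP
  ⟨rd T h hP, rfl⟩

theorem card_U (S : Γ.Spl G) (h : ∀ x, Γ.Reg G x) (hP : Γ.Apt P) (i : ℤ) : Nat.card (Γ.U G P i) = Γ.val (P i) :=
  let ⟨_, T⟩ := S.exists_SP
  rd_card T h hP i

theorem V_le_Iv (S : Γ.Spl G) (h : ∀ x, Γ.Reg G x) (hP : Γ.Apt P) :
    V G (P n) (P (n + 1)) ≤ Iv (Γ.U G P) 1 n :=
  let ⟨_, T⟩ := S.exists_SP
  (rd_seg T h hP (i := 1) ⟨by ring, rfl⟩).ge

end

theorem cen4 {X : Type*} {G : Type*} [Group G] [Finite G] [MulAction G X] {P : ℤ → X} {Γ : Pol 4 X} (S : Γ.Spl G)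
    (h : ∀ x, Γ.Reg G x) (hP : Γ.Apt P) :
    (∃ z ∈ Γ.U G P 2, z ≠ 1 ∧ ∀ v ∈ Γ.U G P 4, Commute z v) ∨ ∃ z ∈ Γ.U G P 3, z ≠ 1 ∧ ∀ v ∈ Γ.U G P 1, Commute z v := by
  obtain ⟨p, T⟩ := S.exists_SP
  have a : Γ.adj (P 4) (P 5) := hP.1.adj rfl
  obtain ⟨z, hz, h1, -⟩ := T.exists_Z_pow a
  have q4 : z ∈ Γ.Q G (P 4) := K_le_Q (S.Z_le_K (k := 1) a hz (by norm_num)) one_pos
  have q5 : z ∈ Γ.Q G (P 5) := K_le_Q (S.Z_le_K' (k := 1) a hz (by norm_num)) one_pos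
  have hs : z ∈ seg (rd T h hP).U 2 3 := by
    refine mem_seg_of_Q T h hP (by norm_num) (Q_le_V' q4 (hP.1.adj rfl)) (fun k h1 h2 => ?_) fun k h1 h2 => ?_
    · rcases le_total k 4 with e | e
      exacts [Q_fix_W hP.1 q4 (by omega) (by omega), Q_fix_W hP.1 q5 (by omega) (by omega)]
    · obtain rfl | rfl : k = 4 ∨ k = 5 := by omega
      exacts [q4, q5]
  obtain ⟨u, hu, y, hy, rfl⟩ := (rd T h hP).left (k := 3) hs (by norm_num)
  replace hy := seg_self (k := 3) hy rfl rfl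
  by_cases e : u = 1
  · subst e
    exact Or.inr ⟨_, by rwa [one_mul], h1, fun v hv => Z_comm_Q hz a (U_Q hv (by norm_num) (by norm_num))⟩
  · refine Or.inl ⟨u, hu, e, fun v hv => ?_⟩
    have := (Z_comm_Q' hz a (U_Q hv (j := 5) (by norm_num) (by norm_num))).mul_left
      ((rd T h hP).adj_comm hy hv (by norm_num)).inv_left
    rwa [mul_inv_cancel_right] at this

end CfsgLib.MP
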