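import Cfsg.Agent.Lib.MP.GA

/-!
# Package ISO: a Moufang polygon is determined by its root groups (see `plans/MP.md`)
-/

set_option autoImplicit false

namespace CfsgLib.MP
open Cfsg CfsgLib.Tits MulAction
open scoped commutatorElement

open CfsgLib.FS CfsgLib.FS.Pol CfsgLib.Mouf

section
variable {n : ℕ} {X : Type*} {Γ : Pol n X} {G : Type*} [Group G] [MulAction G X] {P Q : ℤ → X}

theorem path_eq (a : ℕ) : ∀ {P Q : ℤ → X} {b : ℤ}, Γ.W P → Γ.W Q → P 0 = Q 0 → P a = Q b → 0 ≤ b → a + b < 2 * n →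
    a = b := by
  induction a with
  | zero =>
    intro P Q b _ hQ e0 e1 h1 h2
    by_contra ne
    exact W_ne hQ (i := 0) (j := b) (by omega) (by omega) (by omega) (e0.symm.trans e1)
  | succ a ih =>
    intro P Q b hP hQ e0 e1 h1 h2
    by_cases hb : b = 0
    · subst hb
      exact absurd (e0.trans e1.symm) (W_ne hP (by omega) (by omega) (by omega))
    by_cases e : P 1 = Q 1
    · have := ih (b := b - 1) (hP.shift 1) (hQ.shift 1) (by simpa using e) (by simpa using e1) (by omega) (by omega)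
      omega
    · have := W_ne ((rev hP 0).glue hQ (i := 0) (by simpa using e0) (by simpa using e)) (i := -(a + 1 : ℕ)) (j := b)
        (by omega) (by omega) (by omega)
      rw [if_pos (by omega), if_neg (by omega)] at this
      exact absurd (by simpa using e1) this

theorem idx_eq (hP : Γ.W P) (hQ : Γ.W Q) (e0 : Q n = P n) (e1 : Q (n + 1) = P (n + 1)) {k l : ℤ} (h1 : 1 ≤ k)
    (h2 : k ≤ 2 * n) (h3 : 1 ≤ l) (h4 : l ≤ 2 * n) (e : Q k = P l) : k = l := by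
  by_contra ne
  rcases le_or_gt k n with a | a <;> rcases le_or_gt l n with b | b
  · have := path_eq (n - k).toNat (b := n - l) (rev hQ n) (rev hP n) (by simpa using e0)
      (by simpa [show max ((n : ℤ) - k) 0 = n - k by omega] using e) (by omega) (by omega)
    omega
  · have := W_ne (hQ.glue hP e0 (e1 ▸ hQ.ne (by ring))) (i := k) (j := l) ne (by omega) (by omega)
    rw [if_pos a, if_neg (by omega)] at this
    exact this e
  · have := W_ne (hP.glue hQ e0.symm (e1 ▸ hP.ne (by ring))) (i := l) (j := k) (Ne.symm ne) (by omega) (by omega)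
    rw [if_pos b, if_neg (by omega)] at this
    exact this e.symm
  · have := path_eq (k - n).toNat (b := l - n) (hQ.shift n) (hP.shift n) (by simpa using e0)
      (by rwa [show ((k - n).toNat : ℤ) = k - n by omega, sub_add_cancel, sub_add_cancel]) (by omega) (by omega)
    omega

theorem seg_fix (hP : Γ.W P) {i j k : ℤ} {g : G} (hg : g ∈ seg (Γ.U G P) i j) (h1 : j ≤ k) (h2 : k ≤ i + n) :
    g • P k = P k :=
  seg_le (H := stabilizer G (P k)) (fun _ a b _ hu => U_fix hP hu (by omega) (by omega)) hg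

variable {R : RD n G} (S : Γ.Au G) (hP : Γ.Apt P) (hU : R.U = Γ.U G P)
include S hP hU

theorem stab_left {k : ℤ} (h1 : 1 ≤ k) (d : ℕ) : ∀ g ∈ seg R.U 1 (k + d), k + d ≤ n → g • P k = P k → g ∈ seg R.U 1 k := by
  induction d with
  | zero => intro g hg _ _; simpa using hg
  | succ d ih =>
    intro g hg h2 e
    obtain ⟨y, hy, u, hu, rfl⟩ := R.right (k := k + d) hg (by omega)
    have f := S.fix_between hP.1 (i := k) (k := k + (d + 1 : ℕ)) (by omega) e
      (seg_fix hP.1 (hU ▸ hg) le_rfl (by omega)) (j := k + d) (by omega) (by omega)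
    rw [mul_smul, smul_eq_iff_eq_inv_smul, seg_fix hP.1 (i := 1) (g := y⁻¹) (hU ▸ inv_mem hy) le_rfl (by omega)] at f
    obtain rfl := S.U_eq_one hP.1 (i := k + (d + 1 : ℕ)) (hU ▸ hu) (by omega) f
    rw [mul_one] at e ⊢
    exact ih y hy (by omega) e

theorem stab_right {k : ℤ} (h1 : k ≤ n) (d : ℕ) :
    ∀ g ∈ seg R.U (k - d) n, 1 ≤ k - d → g • P (k + n) = P (k + n) → g ∈ seg R.U k n := by
  induction d with
  | zero => intro g hg _ _; simpa using hg
  | succ d ih =>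
    intro g hg h2 e
    obtain ⟨u, hu, y, hy, rfl⟩ := R.left (k := k - d) hg (by omega)
    have f := S.fix_between hP.1 (i := k - (d + 1 : ℕ) + n) (k := k + n) (by omega)
      (seg_fix hP.1 (hU ▸ hg) (by omega) le_rfl) e (j := k - d + n) (by omega) (by omega)
    rw [mul_smul, seg_fix hP.1 (hU ▸ hy) (by omega) le_rfl] at f
    obtain rfl := S.U_eq_one hP.1 (hU ▸ hu) (by omega) f
    rw [one_mul] at e ⊢
    exact ih y hy (by omega) e

theorem orb {g : G} (hg : g ∈ seg R.U 1 n) {k l : ℤ} (h1 : 1 ≤ k) (h2 : k ≤ 2 * n) (h3 : 1 ≤ l) (h4 : l ≤ 2 * n) :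
    g • P k = P l ↔ k = l ∧ g ∈ seg R.U (max 1 (k - n)) (min n k) := by
  refine ⟨fun e => ?_, fun ⟨e, h⟩ => e ▸ seg_fix hP.1 (hU ▸ h) (by omega) (by omega)⟩
  obtain rfl := idx_eq hP.1 (S.W_smul hP.1 g) (seg_fix hP.1 (hU ▸ hg) le_rfl (by omega))
    (seg_fix hP.1 (hU ▸ hg) (by omega) (by omega)) h1 h2 h3 h4 e
  refine ⟨rfl, ?_⟩
  rcases le_or_gt k n with a | a
  · exact seg_mono (stab_left S hP hU h1 (n - k).toNat g (seg_mono hg le_rfl (by omega)) (by omega) e) (by omega)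
      (by omega)
  · exact seg_mono (stab_right S hP hU (k := k - n) (by omega) (k - n - 1).toNat g (seg_mono hg (by omega) le_rfl)
      (by omega) (by rwa [sub_add_cancel])) (by omega) (by omega)

end

section
variable {n : ℕ} {X : Type*} {Γ : Pol n X} {G : Type*} [Group G] [MulAction G X] [Finite G] {P : ℤ → X} {R : RD n G}
  (S : Γ.Spl G) (h : ∀ x, Γ.Reg G x) (hP : Γ.Apt P) (hU : R.U = Γ.U G P)
include S h hP hU

theorem reach (x : X) : ∃ g ∈ seg R.U 1 n, ∃ k : ℤ, 1 ≤ k ∧ k ≤ 2 * n ∧ x = g • P k := by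
  obtain ⟨Q, hQ, e0, e1, k, h1, h2, rfl⟩ := exists_reach (hP.1.shift n) x
  obtain ⟨v, hv, f⟩ := S.trans (hP.1.shift n) hQ (i := 0) (k := min k 0) (by omega) (by omega) e0.symm e1.symm
  refine ⟨v, hU ▸ V_le_Iv S h hP (by simpa [add_comm] using hv), k + n, by omega, by omega,
    (f k (by omega) (by omega)).symm⟩

theorem edge {x y : X} (e : Γ.adj x y) :
    ∃ g ∈ seg R.U 1 n, ∃ k l : ℤ, (l = k + 1 ∨ k = l + 1) ∧ x = g • P k ∧ y = g • P l := by
  obtain ⟨g, hg, k, h1, h2, rfl⟩ := reach S h hP hU x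
  obtain ⟨y, rfl⟩ : ∃ y', y = g • y' := ⟨g⁻¹ • y, by simp⟩
  rw [S.toAu.adj_iff] at e
  have hM := mou_of_reg S h
  rcases le_or_gt k n with a | a
  · by_cases b : y = P (k + 1)
    · exact ⟨g, hg, k, k + 1, Or.inl rfl, rfl, by rw [b]⟩
    · obtain ⟨u, hu, f⟩ := hM.left hP.1 (i := k) rfl (adj' hP.1 (j := k - 1) (by ring)) e (hP.1.ne (by ring)) b
      exact ⟨g * u, mul_mem hg (mem_seg (hU ▸ hu) h1 a), k, k - 1, Or.inr (by ring),
        by rw [mul_smul, U_fix hP.1 hu le_rfl (by omega)], by rw [mul_smul, f]⟩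
  · by_cases b : y = P (k - 1)
    · exact ⟨g, hg, k, k - 1, Or.inr (by ring), rfl, by rw [b]⟩
    · obtain ⟨u, hu, f⟩ := hM.right hP.1 (i := k - n) (k := k) (j := k - 1) (by omega) (hP.1.adj rfl) e
        (hP.1.ne (by ring)).symm b
      exact ⟨g * u, mul_mem hg (mem_seg (hU ▸ hu) (by omega) (by omega)), k, k + 1, Or.inl rfl,
        by rw [mul_smul, U_fix hP.1 hu (by omega) (by omega)], by rw [mul_smul, f]⟩

end

variable {n : ℕ} {X X' : Type*} {Γ : Pol n X} {Γ' : Pol n X'} {G G' : Type*} [Group G] [MulAction G X] [Group G']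
  [MulAction G' X'] [Finite G] [Finite G'] {P : ℤ → X} {P' : ℤ → X'} {R : RD n G} {R' : RD n G'}

theorem exists_graph_iso (S : Γ.Spl G) (S' : Γ'.Spl G') (h : ∀ x, Γ.Reg G x) (h' : ∀ x, Γ'.Reg G' x) (hP : Γ.Apt P)
    (hP' : Γ'.Apt P') (hU : R.U = Γ.U G P) (hU' : R'.U = Γ'.U G' P') (hL : Lk R R') :
    ∃ f : X ≃ X', ∀ x y, Γ'.adj (f x) (f y) ↔ Γ.adj x y := by
  obtain ⟨Δ, hm, hc⟩ := hL
  have k1 : ∀ g ∈ seg Δ 1 n, ∀ a b : ℤ, 1 ≤ a → b ≤ n → (g.1 ∈ seg R.U a b ↔ g.2 ∈ seg R'.U a b) := by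
    refine fun g hg a b h1 h2 => ⟨fun e => (hm.seg_le (hm.inf hc hg e (by omega)) (by omega)).2, fun e => ?_⟩
    obtain ⟨x, hx⟩ := hm.lift' e ⟨h1, h2⟩
    have := (hm.graph hc (mul_mem hg (inv_mem (seg_mono hx h1 h2))) (by omega)).2 (by simp)
    rw [show g.1 = x from mul_inv_eq_one.1 this]
    exact (hm.seg_le hx ⟨h1, h2⟩).1
  have key : ∀ g ∈ seg Δ 1 n, ∀ g' ∈ seg Δ 1 n, ∀ k l : ℤ, g.1 • P k = g'.1 • P l ↔ g.2 • P' k = g'.2 • P' l := by
    intro g hg g' hg' k l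
    obtain ⟨k', a1, a2, a3⟩ := hP.red 1 k
    obtain ⟨l', b1, b2, b3⟩ := hP.red 1 l
    have m := mul_mem (inv_mem hg') hg
    have m' := hm.seg_le m ⟨le_rfl, le_rfl⟩
    rw [hP.eq a3, hP.eq b3, hP'.eq a3, hP'.eq b3, ← inv_smul_eq_iff, ← inv_smul_eq_iff (g := g'.2), ← mul_smul, ← mul_smul]
    exact (orb S.toAu hP hU m'.1 a1 (by omega) b1 (by omega)).trans
      ((and_congr_right fun _ => k1 _ m _ _ (by omega) (by omega)).trans
        (orb S'.toAu hP' hU' m'.2 a1 (by omega) b1 (by omega)).symm)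
  have : ∀ x, ∃ g ∈ seg Δ 1 n, ∃ k, x = g.1 • P k := fun x => by
    obtain ⟨g, hg, k, -, -, e⟩ := reach S h hP hU x
    obtain ⟨g', hg'⟩ := hm.lift hg ⟨le_rfl, le_rfl⟩
    exact ⟨_, hg', k, e⟩
  choose g hg k e using this
  have hf : ∀ a ∈ seg Δ 1 n, ∀ l, (g (a.1 • P l)).2 • P' (k (a.1 • P l)) = a.2 • P' l := fun a ha l =>
    (key _ (hg _) a ha _ l).1 (e _).symm
  have inj : Function.Injective fun x => (g x).2 • P' (k x) := fun x y e' =>
    (e x).trans (((key _ (hg x) _ (hg y) _ _).2 e').trans (e y).symm)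
  refine ⟨Equiv.ofBijective _ ⟨inj, fun x' => ?_⟩, fun x y => ⟨fun a => ?_, fun a => ?_⟩⟩
  · obtain ⟨u', hu', l, -, -, rfl⟩ := reach S' h' hP' hU' x'
    obtain ⟨u, hu⟩ := hm.lift' hu' ⟨le_rfl, le_rfl⟩
    exact ⟨_, hf _ hu l⟩
  · obtain ⟨u', hu', i, j, hij, e1, e2⟩ := edge S' h' hP' hU' a
    obtain ⟨u, hu⟩ := hm.lift' hu' ⟨le_rfl, le_rfl⟩
    rw [inj (e1.trans (hf _ hu i).symm), inj (e2.trans (hf _ hu j).symm), S.toAu.adj_iff]
    exact hij.elim hP.1.adj (adj' hP.1)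
  · obtain ⟨u, hu, i, j, hij, rfl, rfl⟩ := edge S h hP hU a
    obtain ⟨u', hu'⟩ := hm.lift hu ⟨le_rfl, le_rfl⟩
    have := S'.toAu.smul u' (hij.elim hP'.1.adj (adj' hP'.1))
    rwa [← hf _ hu' i, ← hf _ hu' j] at this

end CfsgLib.MP
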